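import Cfsg.Agent.Lib.MultPSU.Ext

/-!
A tame group has no kernel element of that prime order in the derived group of a central extension.
-/

set_option autoImplicit false

namespace Cfsg.Agent.Lib.MultU62

open Subgroup
open Cfsg.Agent.Lib.MultPSU (Tame commute_ker)

universe u

theorem eq_one_of_tame {r : ℕ} (hr : r.Prime) {G : Type u} [Group G] (h : Tame r G)
    {E : Type u} [Group E] [Finite E] {σ : E →* G} (hσ : Function.Surjective σ) (hk : σ.ker ≤ center E)
    {z : E} (hz : z ∈ commutator E) (hzk : z ∈ σ.ker) (hzr : z ^ r = 1) : z = 1 := by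
  by_contra hne
  haveI := Fact.mk hr
  have hord : orderOf z = r := orderOf_eq_prime hzr hne
  let M : Subgroup E :=
    { carrier := {x | x ∈ σ.ker ∧ (orderOf x).Coprime r}
      one_mem' := ⟨one_mem _, by simp⟩
      mul_mem' := fun {a b} ha hb => ⟨mul_mem ha.1 hb.1, Nat.Coprime.coprime_dvd_left
        (Commute.orderOf_mul_dvd_mul_orderOf (commute_ker hk hb.1 a))
        (Nat.Coprime.mul_left ha.2 hb.2)⟩
      inv_mem' := fun {a} ha => ⟨inv_mem ha.1, by rw [orderOf_inv]; exact ha.2⟩ }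
  haveI : M.Normal := ⟨fun x hx g => by
    rw [(commute_ker hk hx.1 g).eq, mul_inv_cancel_right]; exact hx⟩
  let τ : E ⧸ M →* G := QuotientGroup.lift M σ fun x hx => hx.1
  have hτs : Function.Surjective τ := fun g => by
    obtain ⟨x, rfl⟩ := hσ g; exact ⟨QuotientGroup.mk' M x, rfl⟩
  have hτk : τ.ker ≤ center (E ⧸ M) := fun x hx => by
    obtain ⟨x, rfl⟩ := QuotientGroup.mk'_surjective M x
    refine mem_center_iff.2 fun y => ?_
    obtain ⟨y, rfl⟩ := QuotientGroup.mk'_surjective M y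
    rw [← map_mul, ← map_mul, (commute_ker hk (show σ x = 1 from hx) y).eq]
  have hpg : IsPGroup r τ.ker := fun x => by
    obtain ⟨w, hw⟩ := QuotientGroup.mk'_surjective M x.1
    have hwk : σ w = 1 := by
      have h0 : τ x.1 = 1 := x.2
      rwa [← hw] at h0
    obtain ⟨k, c, hc, he⟩ := Nat.exists_eq_pow_mul_and_not_dvd (orderOf_pos w).ne' r hr.ne_one
    refine ⟨k, Subtype.ext ?_⟩
    rw [coe_pow, ← hw, ← map_pow, coe_one]
    refine (QuotientGroup.eq_one_iff _).2 ⟨pow_mem hwk _, ?_⟩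
    rw [orderOf_pow, he, Nat.gcd_mul_right_left, Nat.mul_div_cancel_left _ (pow_pos hr.pos k)]
    exact ((hr.coprime_iff_not_dvd).2 hc).symm
  have hd : QuotientGroup.mk' M z ∈ commutator (E ⧸ M) ⊓ τ.ker := by
    refine mem_inf.2 ⟨?_, show τ (QuotientGroup.mk' M z) = 1 from hzk⟩
    have := mem_map_of_mem (QuotientGroup.mk' M) hz
    rw [commutator_def, map_commutator] at this
    exact commutator_mono le_top le_top this
  rw [h (E ⧸ M) τ hτs hτk hpg, mem_bot] at hd
  exact hr.ne_one (Nat.eq_one_of_dvd_coprimes ((QuotientGroup.eq_one_iff z).1 hd).2 (hord ▸ dvd_refl _) (dvd_refl r))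

end Cfsg.Agent.Lib.MultU62
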