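import Cfsg.Agent.Lib.MultU62.Words
import Cfsg.Agent.Lib.MultU62.Data

/-!
Kernel evaluation of the certificates.
-/

set_option autoImplicit false
set_option maxRecDepth 40000
set_option Elab.async false

namespace Cfsg.Agent.Lib.MultU62

open Cfsg.Agent.Lib.CosetEnum
open Cfsg.Agent.Lib.Schur.PcCollect (maskVec)

/-- The two twist tables are mutually inverse. -/
noncomputable def dAt (i : ℕ) : Bool :=
  force (get32 dTab i) fun a => force (get32 dInv i) fun b =>
    Nat.blt a 693 && Nat.blt b 693 && Nat.beq (get32 dInv a) i && Nat.beq (get32 dTab b) i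

theorem d_all : allBelow 693 dAt = true := by decide +kernel

theorem d_ok (i : ℕ) (h : i < 693) : get32 dTab i < 693 ∧ get32 dInv i < 693 ∧
    get32 dInv (get32 dTab i) = i ∧ get32 dTab (get32 dInv i) = i := by
  have h' := allBelow_iff.1 d_all i h
  simp only [dAt, force_eq, Bool.and_eq_true, Nat.blt_eq, Nat.beq_eq] at h'
  exact ⟨h'.1.1.1, h'.1.1.2, h'.1.2, h'.2⟩

/-- A pair of words differs by the twist on the isotropic points. -/
noncomputable def twOk (p : List ℕ × List ℕ) : Bool :=
  lettersOk p.1 && lettersOk p.2 && allBelow 693 fun m =>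
    Nat.beq (img6 p.1 (get32 dTab m)) (get32 dTab (img6 p.2 m))

theorem partners_all : allBelow 9 (fun g => twOk ([g], partners.getD g [])) = true := by decide +kernel

theorem partners_ok (g : ℕ) (h : g < 9) : twOk ([g], partners.getD g []) = true :=
  allBelow_iff.1 partners_all g h

/-- The words of the first or second coordinate along a word in the pairs. -/
def coord (c : Bool) (l : List ℕ) : List ℕ :=
  l.flatMap fun i => bif c then (pairsO.getD i ([], [])).2 else (pairsO.getD i ([], [])).1

/-- Two words in the pairs agree. -/
noncomputable def kSame (a b : List ℕ) : Bool :=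
  same (coord false a) (coord false b) && same (coord true a) (coord true b)

theorem gen0_moves : img [0] 1 ≠ 1 := by decide +kernel

theorem coord15 : coord false [15] = [0] ∧ coord true [15] = [] := by decide +kernel

theorem coord16 : coord false [16] = [] ∧ coord true [16] = [0] := by decide +kernel

theorem wit1_ok : kSame (wit1.1 ++ wit1.2) ([15] ++ (wit1.2 ++ wit1.1)) = true := by decide +kernel

theorem wit2_ok : kSame (wit2.1 ++ wit2.2) ([16] ++ (wit2.2 ++ wit2.1)) = true := by decide +kernel

/-- The word in the pairs of a word in the polycyclic generators. -/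
def flat (l : List ℕ) : List ℕ := l.flatMap fun i => series.getD i []

/-- The relations hold. -/
noncomputable def relsAt (i : ℕ) : Bool :=
  allBelow (i + 1) fun j => kSame (flat (two.lhs i j)) (flat (two.rhs i j))

/-- The conjugations hold. -/
noncomputable def conjsAt (c : ℕ) : Bool :=
  let uv := two.conjs.getD c ([], [])
  allBelow uv.1.length fun k =>
    kSame (conjIdx.getD c 0 :: flat (uv.1.getD k [])) (flat (uv.2.getD k []) ++ [conjIdx.getD c 0])

theorem conjs_ok : allBelow two.conjs.length conjsAt = true := by decide +kernel

/-- Membership in a list of numbers. -/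
noncomputable def mem' (x : ℕ) (S : List ℕ) : Bool := S.any fun y => Nat.beq x y

/-- The image of a point of a coordinate under a polycyclic generator. -/
noncomputable def gimg (c l x : ℕ) : ℕ := img (coord (Nat.beq c 1) (flat [l])) x

/-- Each generator leaves a set kept by the later ones. -/
noncomputable def sepAt (j : ℕ) : Bool :=
  let s := sep.getD j (0, 0, [])
  (s.2.2.all fun y => Nat.blt y 3510) && mem' s.2.1 s.2.2 && !(mem' (gimg s.1 j s.2.1) s.2.2) &&
    allBelow 17 fun l => !Nat.blt j l || s.2.2.all fun y => mem' (gimg s.1 l y) s.2.2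

theorem sep_ok : allBelow 17 sepAt = true := by decide +kernel


end Cfsg.Agent.Lib.MultU62
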