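import Cfsg.Agent.Lib.MultU62.Checks

/-!
Kernel evaluation of the certificates.
-/

set_option autoImplicit false
set_option maxRecDepth 40000
set_option Elab.async false

namespace Cfsg.Agent.Lib.MultU62

open Cfsg.Agent.Lib.CosetEnum
open Cfsg.Agent.Lib.Schur.PcCollect (maskVec)

theorem pairs_ok : pairsO.all twOk = true := by decide +kernel

end Cfsg.Agent.Lib.MultU62
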