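import Cfsg.Agent.Lib.MultU62.Model
import Cfsg.Agent.Lib.MultU62.Checks
import Cfsg.Agent.Lib.MultU62.ChecksPairs

/-!
The fourfold cover: pairs of members of the double cover whose actions on the 693 points differ by the twist.
-/

set_option autoImplicit false
set_option maxRecDepth 20000

namespace Cfsg.Agent.Lib.MultU62

open Cfsg.Agent.Lib.CosetEnum Cfsg.Agent.Lib.G24
open U62 (H gen gen_closure)
open scoped commutatorElement

/-- The twist as a permutation. -/
noncomputable def dPerm : Equiv.Perm (Fin 693) where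
  toFun m := ⟨get32 dTab m.1, (d_ok m.1 m.2).1⟩
  invFun m := ⟨get32 dInv m.1, (d_ok m.1 m.2).2.1⟩
  left_inv m := Fin.ext (d_ok m.1 m.2).2.2.1
  right_inv m := Fin.ext (d_ok m.1 m.2).2.2.2

theorem dPerm_apply (m : Fin 693) : (dPerm m).1 = get32 dTab m.1 := rfl

variable (M : Model)

/-- The cover. -/
def K : Subgroup (H × H) where
  carrier := {x | M.ρH x.1 * dPerm = dPerm * M.ρH x.2}
  one_mem' := by simp
  mul_mem' {a b} ha hb := by
    show M.ρH (a.1 * b.1) * dPerm = dPerm * M.ρH (a.2 * b.2)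
    rw [map_mul, map_mul, mul_assoc, show M.ρH b.1 * dPerm = _ from hb, ← mul_assoc,
      show M.ρH a.1 * dPerm = _ from ha, mul_assoc]
  inv_mem' {a} ha := by
    show M.ρH a.1⁻¹ * dPerm = dPerm * M.ρH a.2⁻¹
    rw [map_inv, map_inv, inv_mul_eq_iff_eq_mul, ← mul_assoc, eq_mul_inv_iff_mul_eq]
    exact ha.symm

theorem mem_of_twOk {u v : List ℕ} (h : twOk (u, v) = true) :
    ((ev u, ev v) : H × H) ∈ K M := by
  simp only [twOk, Bool.and_eq_true, allBelow_iff, Nat.beq_eq] at h
  obtain ⟨⟨hu, hv⟩, hall⟩ := h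
  show M.ρH (ev u) * dPerm = dPerm * M.ρH (ev v)
  have key : (M.ρH (ev u))⁻¹ * dPerm = dPerm * (M.ρH (ev v))⁻¹ := Equiv.ext fun m => Fin.ext (by
    rw [Equiv.Perm.mul_apply, Equiv.Perm.mul_apply, img6_spec M hu, dPerm_apply, dPerm_apply,
      img6_spec M hv]
    exact hall m.1 m.2)
  rw [inv_mul_eq_iff_eq_mul, ← mul_assoc, eq_mul_inv_iff_mul_eq] at key
  exact key.symm

theorem pairK_mem (i : ℕ) :
    ((ev (pairsO.getD i ([], [])).1, ev (pairsO.getD i ([], [])).2) : H × H) ∈ K M := by
  by_cases hi : i < pairsO.length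
  · rw [List.getD_eq_getElem _ _ hi]
    exact mem_of_twOk M (List.all_eq_true.1 pairs_ok _ (List.getElem_mem hi))
  · rw [List.getD_eq_default _ _ (not_lt.1 hi)]
    exact (K M).one_mem

/-- The element of a word in the pairs. -/
noncomputable def kel (l : List ℕ) : K M := (l.map fun i => (⟨_, pairK_mem M i⟩ : K M)).prod

theorem kel_append (a b : List ℕ) : kel M (a ++ b) = kel M a * kel M b := by simp [kel]

theorem kel_val : ∀ l : List ℕ,
    (kel M l : H × H) = (ev (coord false l), ev (coord true l))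
  | [] => rfl
  | i :: l => by
    show ((⟨_, pairK_mem M i⟩ : K M) * kel M l : K M).1 = _
    rw [Subgroup.coe_mul, kel_val l,
      show coord false (i :: l) = (pairsO.getD i ([], [])).1 ++ coord false l from List.flatMap_cons,
      show coord true (i :: l) = (pairsO.getD i ([], [])).2 ++ coord true l from List.flatMap_cons,
      ev_append, ev_append]
    rfl

theorem coord_ok (c : Bool) (l : List ℕ) : lettersOk (coord c l) = true := by
  simp only [lettersOk, coord, List.all_flatMap, List.all_eq_true]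
  intro i _ g hg
  by_cases hi : i < pairsO.length
  · rw [List.getD_eq_getElem _ _ hi] at hg
    have h := List.all_eq_true.1 pairs_ok _ (List.getElem_mem hi)
    simp only [twOk, Bool.and_eq_true, lettersOk, List.all_eq_true] at h
    cases c
    · exact h.1.1 g hg
    · exact h.1.2 g hg
  · rw [List.getD_eq_default _ _ (not_lt.1 hi)] at hg
    cases c <;> simp at hg

theorem kel_eq {a b : List ℕ} (h : kSame a b = true) : kel M a = kel M b := by
  simp only [kSame, Bool.and_eq_true] at h
  refine Subtype.ext ?_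
  rw [kel_val, kel_val, ev_eq M (coord_ok _ _) (coord_ok _ _) h.1,
    ev_eq M (coord_ok _ _) (coord_ok _ _) h.2]

/-- The map to the image of the double cover. -/
noncomputable def pi : K M →* M.ρH.range :=
  M.ρH.rangeRestrict.comp ((MonoidHom.fst H H).comp (K M).subtype)

theorem pi_val (x : K M) : (pi M x : Equiv.Perm (Fin 693)) = M.ρH (x : H × H).1 := rfl

theorem pi_surjective : Function.Surjective (pi M) := by
  have hle : Subgroup.closure {x : H | ∃ g < 9, gen g = x} ≤
      ((MonoidHom.fst H H).comp (K M).subtype).range := by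
    rw [Subgroup.closure_le]
    rintro _ ⟨g, hg, rfl⟩
    exact ⟨⟨_, mem_of_twOk M (partners_ok g hg)⟩, by simp [ev]⟩
  rw [gen_closure] at hle
  intro r
  obtain ⟨x, hx⟩ := M.ρH.rangeRestrict_surjective r
  obtain ⟨k, hk⟩ := hle (Subgroup.mem_top x)
  exact ⟨k, by rw [← hx, ← hk]; rfl⟩

theorem gen0_ne (M : Model) : gen 0 ≠ 1 := by
  intro h
  have h1 := img_spec M (l := [0]) rfl ⟨1, by omega⟩
  rw [show ev [0] = gen 0 by simp [ev], h, Subgroup.coe_one, map_one, inv_one,
    Equiv.Perm.one_apply] at h1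
  exact gen0_moves (h1.symm : img [0] 1 = 1)

theorem ρH_gen0 : M.ρH (gen 0) = 1 := by
  rw [← inv_eq_one]
  exact Equiv.ext fun m => Fin.ext ((M.tabH 0 (by omega) m).trans
    (Nat.eq_of_beq_eq_true (allBelow_iff.1 U62.central_ok m.1 m.2)))

theorem card_ker : Nat.card M.ρH.ker = 2 := by
  haveI : Finite H := Nat.finite_of_card_ne_zero (by rw [M.cardH]; omega)
  have h := M.ρH.ker.card_mul_index
  rw [Subgroup.index_ker, M.cardR, M.cardH] at h
  omega

theorem mem_ker_cases {x : H} (hx : M.ρH x = 1) : x = 1 ∨ x = gen 0 := by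
  obtain ⟨a, b, hab, huniv⟩ := Nat.card_eq_two_iff.1 (card_ker M)
  have e1 : (1 : M.ρH.ker) ∈ ({a, b} : Set M.ρH.ker) := huniv ▸ Set.mem_univ _
  have e2 : (⟨x, hx⟩ : M.ρH.ker) ∈ ({a, b} : Set M.ρH.ker) := huniv ▸ Set.mem_univ _
  have e3 : (⟨gen 0, ρH_gen0 M⟩ : M.ρH.ker) ∈ ({a, b} : Set M.ρH.ker) := huniv ▸ Set.mem_univ _
  have hne : (1 : M.ρH.ker) ≠ ⟨gen 0, ρH_gen0 M⟩ := fun h => gen0_ne M (congrArg Subtype.val h).symm
  simp only [Set.mem_insert_iff, Set.mem_singleton_iff] at e1 e2 e3
  rcases e1 with e1 | e1 <;> rcases e2 with e2 | e2 <;> rcases e3 with e3 | e3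
  all_goals first
    | exact absurd (e1.trans e3.symm) hne
    | exact Or.inl (congrArg Subtype.val (e2.trans e1.symm))
    | exact Or.inr (congrArg Subtype.val (e2.trans e3.symm))

theorem mem_ker_pi {x : K M} : x ∈ (pi M).ker ↔ M.ρH (x : H × H).1 = 1 ∧ M.ρH (x : H × H).2 = 1 := by
  rw [MonoidHom.mem_ker, Subtype.ext_iff, pi_val, OneMemClass.coe_one]
  refine ⟨fun h => ⟨h, ?_⟩, fun h => h.1⟩
  have hx : M.ρH (x : H × H).1 * dPerm = dPerm * M.ρH (x : H × H).2 := x.2
  rw [h, one_mul, eq_comm, mul_eq_left] at hx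
  exact hx

/-- The kernel is two copies of the kernel of the double cover. -/
noncomputable def kerEquiv : (pi M).ker ≃* M.ρH.ker × M.ρH.ker where
  toFun x := (⟨_, (mem_ker_pi M).1 x.2 |>.1⟩, ⟨_, (mem_ker_pi M).1 x.2 |>.2⟩)
  invFun p := ⟨⟨(p.1.1, p.2.1), by
    show M.ρH p.1.1 * dPerm = dPerm * M.ρH p.2.1
    rw [MonoidHom.mem_ker.1 p.1.2, MonoidHom.mem_ker.1 p.2.2, one_mul, mul_one]⟩,
    (mem_ker_pi M).2 ⟨p.1.2, p.2.2⟩⟩
  left_inv x := rfl
  right_inv p := rfl
  map_mul' x y := rfl

theorem card_K : Nat.card (K M) = 36787322880 := by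
  rw [← (pi M).ker.card_mul_index, Subgroup.index_ker, MonoidHom.range_eq_top.2 (pi_surjective M),
    Subgroup.card_top, M.cardR, Nat.card_congr (kerEquiv M).toEquiv, Nat.card_prod, card_ker]

theorem finite_K : Finite (K M) := Nat.finite_of_card_ne_zero (by rw [card_K]; omega)

theorem ker_le_center : (pi M).ker ≤ Subgroup.center (K M) := by
  intro k hk
  obtain ⟨h1, h2⟩ := (mem_ker_pi M).1 hk
  have hc : ∀ {a : H}, M.ρH a = 1 → ∀ g : H, g * a = a * g := by
    intro a ha g
    have hg : M.ρH (g * a * g⁻¹) = 1 := by rw [map_mul, map_mul, ha, mul_one, map_inv, mul_inv_cancel]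
    rcases mem_ker_cases M ha with rfl | rfl
    · simp
    · rcases mem_ker_cases M hg with h | h
      · exact absurd (conj_eq_one_iff.1 h) (gen0_ne M)
      · exact mul_inv_eq_iff_eq_mul.1 h
  exact Subgroup.mem_center_iff.2 fun g => Subtype.ext (Prod.ext (hc h1 _) (hc h2 _))

theorem commutator_range : commutator M.ρH.range = ⊤ := by
  obtain ⟨e⟩ := M.iso
  have hs := U62.psu_simple
  have hc := U62.card_psu
  haveI : Finite (Cfsg.PSU 6 K4 2) := Nat.finite_of_card_ne_zero (by rw [hc]; omega)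
  have hP : commutator (Cfsg.PSU 6 K4 2) = ⊤ := by
    refine ((commutator (Cfsg.PSU 6 K4 2)).normal_of_characteristic.eq_bot_or_eq_top).resolve_left ?_
    intro hb
    let _ : CommGroup (Cfsg.PSU 6 K4 2) :=
      { (inferInstance : Group (Cfsg.PSU 6 K4 2)) with
        mul_comm := fun a b => commutatorElement_eq_one_iff_mul_comm.1 (Subgroup.mem_bot.1
          (hb ▸ Subgroup.commutator_mem_commutator (Subgroup.mem_top a) (Subgroup.mem_top b))) }
    have hp := IsSimpleGroup.prime_card (α := Cfsg.PSU 6 K4 2)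
    rw [hc] at hp
    exact Nat.not_prime_mul (a := 2) (b := 4598415360) (by omega) (by omega) hp
  rw [← Subgroup.map_top_of_surjective e.symm.toMonoidHom e.symm.surjective, ← hP, commutator_def,
    commutator_def, Subgroup.map_commutator,
    Subgroup.map_top_of_surjective e.symm.toMonoidHom e.symm.surjective]

theorem perfect_K : commutator (K M) = ⊤ := by
  have hw : ∀ (w : List ℕ × List ℕ) (z : List ℕ), kSame (w.1 ++ w.2) (z ++ (w.2 ++ w.1)) = true →
      kel M z ∈ commutator (K M) := by
    intro w z h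
    have h' := kel_eq M h
    rw [kel_append, kel_append, kel_append] at h'
    have hz : kel M z = ⁅kel M w.1, kel M w.2⁆ := by
      rw [commutatorElement_def, h']
      group
    rw [hz]
    exact Subgroup.commutator_mem_commutator (Subgroup.mem_top _) (Subgroup.mem_top _)
  have hker : (pi M).ker ≤ commutator (K M) := by
    intro x hx
    obtain ⟨h1, h2⟩ := (mem_ker_pi M).1 hx
    have hz1 := hw wit1 [15] wit1_ok
    have hz2 := hw wit2 [16] wit2_ok
    have e1 : (kel M [15] : H × H) = (gen 0, 1) := by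
      rw [kel_val, coord15.1, coord15.2]; simp [ev]
    have e2 : (kel M [16] : H × H) = (1, gen 0) := by
      rw [kel_val, coord16.1, coord16.2]; simp [ev]
    rcases mem_ker_cases M h1 with a | a <;> rcases mem_ker_cases M h2 with b | b
    · rw [show x = 1 from Subtype.ext (Prod.ext a b)]; exact one_mem _
    · rw [show x = kel M [16] from Subtype.ext (by rw [e2]; exact Prod.ext a b)]; exact hz2
    · rw [show x = kel M [15] from Subtype.ext (by rw [e1]; exact Prod.ext a b)]; exact hz1
    · rw [show x = kel M [15] * kel M [16] from Subtype.ext (by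
        rw [Subgroup.coe_mul, e1, e2, Prod.mk_mul_mk, one_mul, mul_one]; exact Prod.ext a b)]
      exact mul_mem hz1 hz2
  have hmap : (commutator (K M)).map (pi M) = ⊤ := by
    rw [commutator_def, Subgroup.map_commutator, Subgroup.map_top_of_surjective _ (pi_surjective M),
      ← commutator_def, commutator_range]
  rw [eq_top_iff]
  intro x _
  have h3 : x ∈ ((commutator (K M)).map (pi M)).comap (pi M) := by rw [hmap]; exact Subgroup.mem_top _
  rwa [Subgroup.comap_map_eq_self hker] at h3

end Cfsg.Agent.Lib.MultU62
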