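import Cfsg.Agent.Lib.MultU62.Two
import Cfsg.Agent.Lib.MultU62.Tame
import Cfsg.Agent.Lib.MultPSU.CrossMain
import Cfsg.Agent.Lib.Multiplier.Central
import Cfsg.Agent.Lib.Schur.PermMult

/-!
The Schur multiplier of `PSU(6, 2)` over the computable field with four elements.
-/

set_option autoImplicit false
set_option maxRecDepth 20000

namespace Cfsg.Agent.Lib.MultU62

open Cfsg.Agent.Lib.G24
open Cfsg.Agent.Lib.Multiplier (fibredProduct ker_comp_le_center)
open Subgroup

theorem card_K4 : Fintype.card K4 = 2 ^ 2 := by rw [K4.card_eq]; rfl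

theorem charP_K4 : CharP K4 2 := by
  obtain ⟨p, hp⟩ := CharP.exists K4
  have h2 : ((2 : ℕ) : K4) = 0 := by decide +kernel
  have hd := (CharP.cast_eq_zero_iff K4 p 2).1 h2
  rcases (Nat.dvd_prime Nat.prime_two).1 hd with rfl | rfl
  · exact absurd rfl (CharP.char_ne_one K4 1)
  · exact hp

abbrev SU6 : Type := Cfsg.SU 6 K4 2

theorem perfect_SU6 : commutator SU6 = ⊤ :=
  Cfsg.Agent.Lib.Unitary.commutator_SU card_K4 (by omega) (by omega)

theorem card_center : Nat.card (Subgroup.center SU6) = 3 :=
  (Cfsg.Agent.Lib.Unitary.card_center_SU card_K4 (by omega)).trans (by decide)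

/-- The projection of the special group. -/
noncomputable def cls6 : SU6 →* Cfsg.PSU 6 K4 2 := QuotientGroup.mk' _

theorem ker_cls6 : cls6.ker = Subgroup.center SU6 := QuotientGroup.ker_mk' _

theorem cls6_surjective : Function.Surjective cls6 := QuotientGroup.mk'_surjective _

/-- A perfect cover of `G` by an extension whose quotient has no kernel element of order `p` has none either. -/
theorem eq_one_of_quotient {Γ Q Δ : Type} [Group Γ] [Group Q] [Group Δ] [Finite Δ] (hperf : commutator Γ = ⊤)
    (f : Γ →* Q) (hf : Function.Surjective f) (hfk : f.ker ≤ center Γ) {δ : Δ →* Γ}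
    (hδ : Cfsg.IsStemExtension δ) : Cfsg.IsStemExtension (f.comp δ) ∧ commutator Δ = ⊤ := by
  have hD : commutator Δ = ⊤ := by
    have hmap : (commutator Δ).map δ = ⊤ := by
      rw [commutator_def, Subgroup.map_commutator, Subgroup.map_top_of_surjective _ hδ.1,
        ← commutator_def, hperf]
    rw [eq_top_iff]
    intro x _
    have h3 : x ∈ ((commutator Δ).map δ).comap δ := by rw [hmap]; exact mem_top _
    rwa [Subgroup.comap_map_eq_self hδ.2.2] at h3
  exact ⟨⟨hf.comp hδ.1, ker_comp_le_center hD δ hδ.2.1 f hfk, by rw [hD]; exact le_top⟩, hD⟩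

variable (M : Model)

/-- The cover mapped to the simple group. -/
noncomputable def piP : K M →* Cfsg.PSU 6 K4 2 := (Classical.choice M.iso).toMonoidHom.comp (pi M)

theorem piP_surjective : Function.Surjective (piP M) :=
  (Classical.choice M.iso).surjective.comp (pi_surjective M)

theorem ker_piP : (piP M).ker = (pi M).ker := by
  ext x
  exact (MulEquiv.map_eq_one_iff (Classical.choice M.iso))

/-- The full cover. -/
noncomputable abbrev Full : Subgroup (↥(K M) × SU6) := fibredProduct (piP M) cls6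

/-- The map of the full cover. -/
noncomputable def sigma : Full M →* Cfsg.PSU 6 K4 2 :=
  (piP M).comp ((MonoidHom.fst _ _).comp (Full M).subtype)

/-- The first projection. -/
noncomputable def proj1 : Full M →* K M := (MonoidHom.fst _ _).comp (Full M).subtype

/-- The second projection. -/
noncomputable def proj2 : Full M →* SU6 := (MonoidHom.snd _ _).comp (Full M).subtype

theorem proj1_surjective : Function.Surjective (proj1 M) := fun k => by
  obtain ⟨s, hs⟩ := cls6_surjective (piP M k)
  exact ⟨⟨(k, s), hs.symm⟩, rfl⟩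

theorem proj2_surjective : Function.Surjective (proj2 M) := fun s => by
  obtain ⟨k, hk⟩ := piP_surjective M (cls6 s)
  exact ⟨⟨(k, s), hk⟩, rfl⟩

theorem sigma_eq (x : Full M) : sigma M x = cls6 (proj2 M x) := x.2

theorem mem_ker_sigma {x : Full M} :
    x ∈ (sigma M).ker ↔ (proj1 M x ∈ (pi M).ker ∧ proj2 M x ∈ Subgroup.center SU6) := by
  rw [← SetLike.ext_iff.1 (ker_piP M) (proj1 M x), ← SetLike.ext_iff.1 ker_cls6 (proj2 M x),
    MonoidHom.mem_ker, MonoidHom.mem_ker, MonoidHom.mem_ker]
  exact ⟨fun h => ⟨h, (sigma_eq M x).symm.trans h⟩, fun h => h.1⟩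

theorem proj_ext {x y : Full M} (h1 : proj1 M x = proj1 M y) (h2 : proj2 M x = proj2 M y) : x = y :=
  Subtype.ext (Prod.ext h1 h2)

theorem ker_sigma_central : (sigma M).ker ≤ center (Full M) := fun x hx => by
  obtain ⟨h1, h2⟩ := (mem_ker_sigma M).1 hx
  refine mem_center_iff.2 fun g => proj_ext M ?_ ?_
  · rw [map_mul, map_mul]; exact mem_center_iff.1 (ker_le_center M h1) _
  · rw [map_mul, map_mul]; exact mem_center_iff.1 h2 _

theorem ker_proj1_le : (proj1 M).ker ≤ (sigma M).ker := fun x hx => by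
  rw [MonoidHom.mem_ker] at hx ⊢
  show piP M (proj1 M x) = 1
  rw [hx, map_one]

theorem ker_proj2_le : (proj2 M).ker ≤ (sigma M).ker := fun x hx => by
  rw [MonoidHom.mem_ker] at hx ⊢
  rw [sigma_eq, hx, map_one]

theorem finite_SU6 : Finite SU6 := inferInstance

theorem finite_full : Finite (Full M) := by
  haveI := finite_K M
  infer_instance

theorem card_ker_proj1 : ∀ x ∈ (proj1 M).ker, x ^ 3 = 1 := by
  intro x hx
  have h2 := ((mem_ker_sigma M).1 (ker_proj1_le M hx)).2
  refine proj_ext M (by rw [map_pow, MonoidHom.mem_ker.1 hx, one_pow, map_one]) ?_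
  have h := pow_card_eq_one' (x := (⟨proj2 M x, h2⟩ : Subgroup.center SU6))
  rw [card_center] at h
  rw [map_pow, map_one]
  exact congrArg Subtype.val h

theorem card_ker_proj2 : ∀ x ∈ (proj2 M).ker, x ^ 4 = 1 := by
  intro x hx
  have h1 := ((mem_ker_sigma M).1 (ker_proj2_le M hx)).1
  refine proj_ext M ?_ (by rw [map_pow, MonoidHom.mem_ker.1 hx, one_pow, map_one])
  haveI := finite_K M
  have h := pow_card_eq_one' (x := (⟨proj1 M x, h1⟩ : (pi M).ker))
  rw [Nat.card_congr (kerEquiv M).toEquiv, Nat.card_prod, card_ker] at h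
  rw [map_pow, map_one]
  exact congrArg Subtype.val h

theorem perfect_full : commutator (Full M) = ⊤ := by
  have key : ∀ {X : Type} [Group X] (f : Full M →* X), Function.Surjective f → commutator X = ⊤ →
      ∀ (e : ℕ), (∀ y ∈ f.ker, y ^ e = 1) → ∀ a : Full M, (Abelianization.of a) ^ e = 1 := by
    intro X _ f hf hX e he a
    have hmap : f a ∈ (commutator (Full M)).map f := by
      rw [commutator_def, Subgroup.map_commutator, Subgroup.map_top_of_surjective _ hf,
        ← commutator_def, hX]
      exact mem_top _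
    obtain ⟨c, hc, hca⟩ := hmap
    have hy : c⁻¹ * a ∈ f.ker := by rw [MonoidHom.mem_ker, map_mul, map_inv, hca, inv_mul_cancel]
    have h1 : Abelianization.of c = 1 := by
      rw [← MonoidHom.mem_ker, Abelianization.ker_of]; exact hc
    have h2 : Abelianization.of a = Abelianization.of (c⁻¹ * a) := by
      rw [map_mul, map_inv, h1, inv_one, one_mul]
    rw [h2, ← map_pow, he _ hy, map_one]
  rw [eq_top_iff]
  intro a _
  have h3 := key (proj1 M) (proj1_surjective M) (perfect_K M) 3 (card_ker_proj1 M) a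
  have h4 := key (proj2 M) (proj2_surjective M) perfect_SU6 4 (card_ker_proj2 M) a
  rw [← Abelianization.ker_of, MonoidHom.mem_ker]
  rw [show (4 : ℕ) = 3 + 1 from rfl, pow_succ, h3, one_mul] at h4
  exact h4

theorem trivial_full : Cfsg.HasCyclicSchurMultiplier (Full M) 1 := by
  haveI := finite_full M
  refine Schur.Fusion.hasTrivialMultiplier fun p hp _ => ⟨⊤, ?_, ?_⟩
  · rw [Subgroup.index_top]; exact fun h => hp.ne_one (Nat.dvd_one.1 h)
  intro Δ _ _ δ hδ z hz hzp _
  by_cases h2 : p = 2
  · subst h2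
    obtain ⟨hs, -⟩ := eq_one_of_quotient (perfect_full M) (proj1 M) (proj1_surjective M)
      ((ker_proj1_le M).trans (ker_sigma_central M)) hδ
    exact no_two M hs (by rw [MonoidHom.mem_ker] at hz ⊢; rw [MonoidHom.comp_apply, hz, map_one]) hzp
  · obtain ⟨hs, hD⟩ := eq_one_of_quotient (perfect_full M) (proj2 M) (proj2_surjective M)
      ((ker_proj2_le M).trans (ker_sigma_central M)) hδ
    haveI := charP_K4
    exact eq_one_of_tame hp (MultPSU.tame_SU_cross card_K4 Nat.prime_two hp (Ne.symm h2) 6)
      hs.1 hs.2.1 (by rw [hD]; exact mem_top _)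
      (by rw [MonoidHom.mem_ker] at hz ⊢; rw [MonoidHom.comp_apply, hz, map_one]) hzp

/-- The kernel of the full cover. -/
noncomputable def kerFull : (sigma M).ker ≃* Subgroup.center SU6 × (M.ρH.ker × M.ρH.ker) where
  toFun x := (⟨proj2 M x.1, ((mem_ker_sigma M).1 x.2).2⟩,
    kerEquiv M ⟨proj1 M x.1, ((mem_ker_sigma M).1 x.2).1⟩)
  invFun p := ⟨⟨(((kerEquiv M).symm p.2).1, p.1.1), by
    show piP M ((kerEquiv M).symm p.2).1 = cls6 p.1.1
    rw [(MonoidHom.mem_ker (f := piP M)).1 (by rw [ker_piP]; exact ((kerEquiv M).symm p.2).2),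
      (MonoidHom.mem_ker (f := cls6)).1 (by rw [ker_cls6]; exact p.1.2)]⟩, by
    show piP M ((kerEquiv M).symm p.2).1 = 1
    exact (MonoidHom.mem_ker (f := piP M)).1 (by rw [ker_piP]; exact ((kerEquiv M).symm p.2).2)⟩
  left_inv x := by
    refine Subtype.ext (Subtype.ext (Prod.ext ?_ rfl))
    rfl
  right_inv p := Prod.ext rfl (by exact (kerEquiv M).apply_symm_apply p.2)
  map_mul' x y := rfl

theorem multiplier : Cfsg.HasSchurMultiplier (Cfsg.PSU 6 K4 2)
    (Multiplicative (ZMod 3 × ZMod 2 × ZMod 2)) := by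
  obtain ⟨M⟩ := exists_model
  haveI := finite_full M
  have hsurj : Function.Surjective (sigma M) := (piP_surjective M).comp (proj1_surjective M)
  haveI : Fact (Nat.Prime 2) := ⟨Nat.prime_two⟩
  haveI : Fact (Nat.Prime 3) := ⟨Nat.prime_three⟩
  haveI : IsCyclic M.ρH.ker := isCyclic_of_prime_card (card_ker M)
  haveI : IsCyclic (Subgroup.center SU6) := isCyclic_of_prime_card card_center
  have c2 : Nat.card M.ρH.ker = Nat.card (Multiplicative (ZMod 2)) := by
    rw [card_ker, Nat.card_congr Multiplicative.toAdd, Nat.card_zmod]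
  have c3 : Nat.card (Subgroup.center SU6) = Nat.card (Multiplicative (ZMod 3)) := by
    rw [card_center, Nat.card_congr Multiplicative.toAdd, Nat.card_zmod]
  let e2 := mulEquivOfCyclicCardEq c2
  let e3 := mulEquivOfCyclicCardEq c3
  exact Schur.PermMult.hasSchurMultiplier_of_cover (sigma M)
    ⟨hsurj, ker_sigma_central M, by rw [perfect_full]; exact le_top⟩ (trivial_full M)
    ((kerFull M).trans ((e3.prodCongr ((e2.prodCongr e2).trans (MulEquiv.prodMultiplicative _ _).symm)).trans
      (MulEquiv.prodMultiplicative _ _).symm))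

end Cfsg.Agent.Lib.MultU62
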