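import Cfsg.Agent.Lib.CosetEnum.U62.Data
import Cfsg.Agent.Lib.CosetEnum.Fi22x3510.Data

/-!
Evaluation of words in the nine generators of the double cover by table lookups.
-/

set_option autoImplicit false

namespace Cfsg.Agent.Lib.MultU62

open Cfsg.Agent.Lib.CosetEnum

/-- All letters are generators. -/
def lettersOk (l : List ℕ) : Bool := l.all fun g => Nat.blt g 9

/-- The image of a point under a word. -/
noncomputable def img (l : List ℕ) (i : ℕ) : ℕ :=
  scan Fi22x3510.letters.K Fi22x3510.table (l.map fun g => Fi22x3510.subWords.getD g []).flatten i

/-- The base points. -/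
def bases : List ℕ := [0, 1, 5, 3, 8, 9, 13]

/-- Two words agree on the base. -/
noncomputable def same (a b : List ℕ) : Bool := bases.all fun i => Nat.beq (img a i) (img b i)

/-- The image of an isotropic point under a word. -/
noncomputable def img6 (l : List ℕ) (m : ℕ) : ℕ := scan 9 U62.table l m

end Cfsg.Agent.Lib.MultU62
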