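import Cfsg.Agent.Lib.CosetEnum.U62.Hom
import Cfsg.Agent.Lib.Schur.WordCodeCert
import Cfsg.Agent.Lib.MultU62.Words

/-!
The double cover of `PSU(6, 2)` inside the Fischer group on 3510 points: elements are words in nine
involutions, equality is read on the base points, and the action on the 693 isotropic points is by a table.
-/

set_option autoImplicit false
set_option maxRecDepth 20000
set_option Elab.async false

namespace Cfsg.Agent.Lib.MultU62

open Cfsg.Agent.Lib.CosetEnum Cfsg.Agent.Lib.G24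
open U62 (G22 H hWord gen relWord gen_closure orbAt orb_ok pos_lt hWord_lt inv_ok central_ok table card_psu σbar
  exists_gen)

/-- The double cover acting on the 3510 cosets and on the 693 isotropic points. -/
structure Model where
  ρ : G22 →* Equiv.Perm (Fin 3510)
  tab : ∀ g < Fi22x3510.letters.K, ∀ i : Fin 3510,
    ((ρ (Fi22x3510.letters.phi _ g))⁻¹ i).1 =
      get32 Fi22x3510.table (i.1 * Fi22x3510.letters.K + g)
  inj : Function.Injective ρ
  ρH : H →* Equiv.Perm (Fin 693)
  tabH : ∀ g < 9, ∀ m : Fin 693, ((ρH (gen g))⁻¹ m).1 = get32 U62.table (m.1 * 9 + g)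
  cardH : Nat.card H = 18393661440
  cardR : Nat.card ρH.range = 9196830720
  iso : Nonempty (ρH.range ≃* Cfsg.PSU 6 K4 2)

theorem exists_model : Nonempty Model := by
  obtain ⟨ρ, hρ, hst, htr⟩ := Fi22x3510.enum.action
  have hG : Nat.card G22 = 64561751654400 := Cfsg.Agent.S1696.result.2
  haveI : Finite G22 := Nat.finite_of_card_ne_zero (by rw [hG]; omega)
  have hinj : Function.Injective ρ :=
    injective_of_card ρ ⟨by rw [hG]; omega, hG.le⟩ (Fi22Slp.card_ge ρ _ hρ)
  have hH : Nat.card H = 18393661440 := by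
    have h := H.card_mul_index
    rw [show H.index = 3510 from Fi22x3510.enum.index, hG] at h
    omega
  haveI : Finite H := Nat.finite_of_card_ne_zero (by rw [hH]; omega)
  have horb : ∀ m : Fin 693, ∃ hq : get32 Fi22x3510.orbPts2 m.1 < 3510,
      get32 Fi22x3510.orbPos2 (get32 Fi22x3510.orbPts2 m.1) = m.1 ∧ ∀ g < 9,
        get32 Fi22x3510.orbPos2 (scan Fi22x3510.letters.K Fi22x3510.table (hWord g)
          (get32 Fi22x3510.orbPts2 m.1)) = get32 table (m.1 * 9 + g) := by
    intro m
    have h := allBelow_iff.1 orb_ok m.1 m.2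
    simp only [orbAt, force_eq, Bool.and_eq_true, Nat.blt_eq, Nat.beq_eq] at h
    exact ⟨h.1.1, h.1.2, fun g hg => Nat.eq_of_beq_eq_true (allBelow_iff.1 h.2 g hg)⟩
  let f : Fin 693 → Fin 3510 := fun m => ⟨_, (horb m).1⟩
  let p : Fin 3510 → Fin 693 := fun i => ⟨get32 Fi22x3510.orbPos2 i.1, by
    have := allBelow_iff.1 pos_lt i.1 i.2
    simpa using this⟩
  have hpf : ∀ m, p (f m) = m := fun m => Fin.ext (horb m).2.1
  obtain ⟨-, hmem, hreach⟩ := Fi22x3510.orb2_spec ρ hρ
  have hfp : ∀ (x : H) (m : Fin 693), f (p (ρ x.1 (f m))) = ρ x.1 (f m) := by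
    intro x m
    obtain ⟨a, ha, ha'⟩ := hreach m.1 m.2 (f m) rfl
    exact Fin.ext (hmem _ ⟨x.1 * a, mul_mem x.2 ha, by rw [map_mul, Equiv.Perm.mul_apply, ha']⟩)
  let ρH : H →* Equiv.Perm (Fin 693) :=
    { toFun := fun x =>
        { toFun := fun m => p (ρ x.1 (f m))
          invFun := fun m => p (ρ (x⁻¹ : H).1 (f m))
          left_inv := fun m => by
            change p (ρ (x⁻¹ : H).1 (f (p (ρ x.1 (f m))))) = m
            rw [hfp, ← Equiv.Perm.mul_apply, ← map_mul, ← Subgroup.coe_mul, inv_mul_cancel]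
            simp [hpf]
          right_inv := fun m => by
            change p (ρ x.1 (f (p (ρ (x⁻¹ : H).1 (f m))))) = m
            rw [hfp, ← Equiv.Perm.mul_apply, ← map_mul, ← Subgroup.coe_mul, mul_inv_cancel]
            simp [hpf] }
      map_one' := by
        apply Equiv.ext
        intro m
        change p (ρ (1 : H).1 (f m)) = m
        simp [hpf]
      map_mul' := fun a b => by
        apply Equiv.ext
        intro m
        change p (ρ (a * b : H).1 (f m)) = p (ρ a.1 (f (p (ρ b.1 (f m)))))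
        rw [hfp, ← Equiv.Perm.mul_apply, ← map_mul]
        rfl }
  have hgen : ∀ g < 9, ∀ m : Fin 693, ((ρH (gen g))⁻¹ m).1 = get32 table (m.1 * 9 + g) := by
    intro g hg m
    rw [← map_inv]
    change (p (ρ ((gen g)⁻¹ : H).1 (f m))).1 = _
    rw [← (horb m).2.2 g hg]
    change get32 Fi22x3510.orbPos2 _ = _
    congr 1
    simp only [gen, dif_pos hg, Subgroup.coe_inv, map_inv]
    exact rho_scan Fi22x3510.letters _ ρ hρ _ (hWord_lt g hg) (f m)
  have hgen' : ∀ g < 9, ∀ m : Fin 693, (ρH (gen g) m).1 = get32 table (m.1 * 9 + g) := by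
    intro g hg m
    have h1 := allBelow_iff.1 (allBelow_iff.1 inv_ok m.1 m.2) g hg
    simp only [Bool.and_eq_true, Nat.beq_eq, Nat.blt_eq] at h1
    have h2 : (ρH (gen g))⁻¹ ⟨_, h1.2⟩ = m := Fin.ext ((hgen g hg _).trans h1.1)
    have h3 := congrArg (ρH (gen g)) h2
    rw [Equiv.Perm.inv_def, Equiv.apply_symm_apply] at h3
    exact congrArg Fin.val h3.symm
  have hz : ρH (gen 0) = 1 := by
    apply Equiv.ext
    intro m
    exact Fin.ext ((hgen' 0 (by omega) m).trans
      (Nat.eq_of_beq_eq_true (allBelow_iff.1 central_ok m.1 m.2)))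
  have hsub : ρH.range ≤ σbar.range := by
    rw [MonoidHom.range_eq_map, ← gen_closure, MonoidHom.map_closure, Subgroup.closure_le]
    rintro _ ⟨_, ⟨g, hg, rfl⟩, rfl⟩
    rcases Nat.eq_zero_or_pos g with rfl | hg0
    · rw [hz]; exact one_mem _
    · obtain ⟨x, hx⟩ := exists_gen (g - 1) (by omega)
      refine ⟨x, Equiv.ext fun m => Fin.ext ?_⟩
      rw [hx m, hgen' g hg m, Nat.sub_add_cancel hg0]
  have hge : 9196830720 ≤ Nat.card ρH.range := U62Slp.card_ge ρH gen hgen
  have hR : Nat.card σbar.range ≤ 9196830720 := card_psu ▸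
    haveI : Finite (Cfsg.PSU 6 K4 2) := Nat.finite_of_card_ne_zero (by rw [card_psu]; omega)
    Nat.card_le_card_of_surjective σbar.rangeRestrict σbar.rangeRestrict_surjective
  have heq : ρH.range = σbar.range := Subgroup.eq_of_le_of_card_ge hsub (hR.trans hge)
  have hσ : Function.Injective σbar :=
    injective_of_card σbar ⟨by rw [card_psu]; omega, card_psu.le⟩ (heq ▸ hge)
  exact ⟨⟨ρ, hρ, hinj, ρH, hgen, hH, le_antisymm (heq ▸ hR) hge,
    ⟨(MulEquiv.subgroupCongr heq).trans (MonoidHom.ofInjective hσ).symm⟩⟩⟩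

variable (M : Model)

/-- The element of a word in the nine generators. -/
noncomputable def ev (l : List ℕ) : H := (l.map gen).prod

@[simp] theorem ev_nil : ev [] = 1 := rfl

theorem ev_append (a b : List ℕ) : ev (a ++ b) = ev a * ev b := by simp [ev]

theorem ev_cons (g : ℕ) (l : List ℕ) : ev (g :: l) = gen g * ev l := by simp [ev]

theorem ev_val {l : List ℕ} (hl : lettersOk l = true) :
    (ev l).1 = ((relWord l).map (Fi22x3510.letters.phi _)).prod := by
  induction l with
  | nil => rfl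
  | cons g l ih =>
    simp only [lettersOk, List.all_cons, Bool.and_eq_true, Nat.blt_eq] at hl
    rw [ev_cons, Subgroup.coe_mul, ih hl.2, relWord, relWord]
    simp only [List.map_cons, List.flatten_cons, List.map_append, List.prod_append]
    simp only [gen, dif_pos hl.1, hWord]

theorem relWord_lt {l : List ℕ} (hl : lettersOk l = true) :
    ∀ g ∈ relWord l, g < Fi22x3510.letters.K := by
  intro g hg
  obtain ⟨w, hw, hgw⟩ := List.mem_flatten.1 hg
  obtain ⟨y, hy, rfl⟩ := List.mem_map.1 hw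
  simp only [lettersOk, List.all_eq_true, Nat.blt_eq] at hl
  exact U62.hWord_lt y (hl y hy) g hgw

theorem img_spec {l : List ℕ} (hl : lettersOk l = true) (i : Fin 3510) :
    ((M.ρ (ev l).1)⁻¹ i).1 = img l i.1 := by
  rw [ev_val hl]
  exact rho_scan Fi22x3510.letters _ M.ρ M.tab _ (relWord_lt hl) i

theorem bases_eq : [Fi22Slp.level0, Fi22Slp.level1, Fi22Slp.level2, Fi22Slp.level3, Fi22Slp.level4,
    Fi22Slp.level5, Fi22Slp.level6].map OrbLevel.base = bases := rfl

theorem ev_eq (M : Model) {a b : List ℕ} (ha : lettersOk a = true) (hb : lettersOk b = true)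
    (h : same a b = true) : ev a = ev b := by
  apply Subtype.ext
  apply M.inj
  rw [← inv_inj, ← inv_mul_eq_one]
  have hG : Nat.card G22 = 64561751654400 := Cfsg.Agent.S1696.result.2
  haveI : Finite G22 := Nat.finite_of_card_ne_zero (by rw [hG]; omega)
  have hfull : Nat.card M.ρ.range ≤ chainSize [Fi22Slp.level0, Fi22Slp.level1, Fi22Slp.level2,
      Fi22Slp.level3, Fi22Slp.level4, Fi22Slp.level5, Fi22Slp.level6] := by
    rw [Fi22Slp.size_eq, ← hG]
    exact Nat.card_le_card_of_surjective M.ρ.rangeRestrict M.ρ.rangeRestrict_surjective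
  refine Schur.WordCodeCert.separate_of_levels M.ρ (slp_sound M.ρ _ M.tab Fi22Slp.slp_ok)
    Fi22Slp.levels_ok hfull ?_ fun c hc i hi => ?_
  · exact mul_mem (inv_mem (inv_mem ⟨_, rfl⟩)) (inv_mem ⟨_, rfl⟩)
  · simp only [same, List.all_eq_true, Nat.beq_eq] at h
    rw [bases_eq] at hc
    have hab : (M.ρ (ev a).1)⁻¹ i = (M.ρ (ev b).1)⁻¹ i :=
      Fin.ext (by rw [img_spec M ha, img_spec M hb, hi]; exact h c hc)
    rw [inv_inv, Equiv.Perm.mul_apply, ← hab, Equiv.Perm.inv_def, Equiv.apply_symm_apply]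

theorem img6_spec {l : List ℕ} (hl : lettersOk l = true) :
    ∀ m : Fin 693, ((M.ρH (ev l))⁻¹ m).1 = img6 l m.1 := by
  induction l with
  | nil => intro m; simp [img6, scan]
  | cons g l ih =>
    intro m
    simp only [lettersOk, List.all_cons, Bool.and_eq_true, Nat.blt_eq] at hl
    rw [ev_cons, map_mul, mul_inv_rev, Equiv.Perm.mul_apply, ih hl.2, M.tabH g hl.1]
    change scan 9 U62.table l _ = force (get32 U62.table (Nat.add (Nat.mul m.1 9) g)) (scan 9 U62.table l)
    rw [force_eq]; rfl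

end Cfsg.Agent.Lib.MultU62
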