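import Cfsg.Agent.Lib.MultU62.Cover
import Cfsg.Agent.Lib.MultU62.ChecksRels
import Cfsg.Agent.Lib.MultU62.ChecksCert
import Cfsg.Agent.Lib.Schur.PcCollect

/-!
The fourfold cover has no stem extension with a kernel element of order two.
-/

set_option autoImplicit false
set_option maxRecDepth 20000

namespace Cfsg.Agent.Lib.MultU62

open Cfsg.Agent.Lib.CosetEnum
open U62 (H gen)
open Cfsg.Agent.Lib.Schur
open Cfsg.Agent.Lib.Schur.PcCollect (Data maskVec)

variable (M : Model)

/-- The polycyclic generators in the cover. -/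
noncomputable def kg (l : ℕ) : K M := kel M (series.getD l [])

theorem el_kg : ∀ l : List ℕ, Data.el (kg M) l = kel M (flat l)
  | [] => rfl
  | i :: l => by
    rw [Data.el_cons, el_kg l, kg, ← kel_append, flat, flat, List.flatMap_cons]

/-- A coordinate of a pair. -/
def pick (c : ℕ) (x : H × H) : H := bif Nat.beq c 1 then x.2 else x.1

theorem pick_mul (c : ℕ) (x y : H × H) : pick c (x * y) = pick c x * pick c y := by
  rw [pick, pick, pick]; cases Nat.beq c 1 <;> rfl

theorem pick_one (c : ℕ) : pick c (1 : H × H) = 1 := by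
  rw [pick]; cases Nat.beq c 1 <;> rfl

theorem pick_kel (c : ℕ) (l : List ℕ) : pick c (kel M l : H × H) = ev (coord (Nat.beq c 1) l) := by
  rw [kel_val, pick]; cases Nat.beq c 1 <;> rfl

theorem gimg_spec (c l : ℕ) (i : Fin 3510) :
    ((M.ρ (pick c (kg M l : H × H)).1)⁻¹ i).1 = gimg c l i.1 := by
  rw [kg, pick_kel, img_spec M (coord_ok _ _), gimg, flat, List.flatMap_cons, List.flatMap_nil,
    List.append_nil]

theorem strict : ∀ j < two.n, kg M j ∉ Subgroup.closure (kg M '' {l | j < l ∧ l < two.n}) := by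
  intro j hj hmem
  have h := allBelow_iff.1 sep_ok j hj
  simp only [sepAt, mem', Bool.and_eq_true, List.all_eq_true, List.any_eq_true, Nat.beq_eq,
    Bool.not_eq_true', Nat.blt_eq, allBelow_iff, Bool.or_eq_true] at h
  obtain ⟨⟨⟨hlt, hb⟩, hout⟩, hinv⟩ := h
  generalize sep.getD j (0, 0, []) = s at hlt hb hout hinv
  obtain ⟨c, b, S⟩ := s
  dsimp only at hlt hb hout hinv
  haveI := finite_K M
  have key : ∀ x ∈ Submonoid.closure (kg M '' {l | j < l ∧ l < two.n}),
      ∀ i : Fin 3510, i.1 ∈ S → ((M.ρ (pick c (x : H × H)).1)⁻¹ i).1 ∈ S := by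
    intro x hx
    induction hx using Submonoid.closure_induction with
    | mem y hy =>
      obtain ⟨l, ⟨hjl, hl⟩, rfl⟩ := hy
      intro i hi
      rw [gimg_spec]
      rcases hinv l hl with hn | hn
      · rw [← Bool.not_eq_true, Nat.blt_eq] at hn; omega
      · obtain ⟨y, hy, he⟩ := hn i.1 hi
        exact he ▸ hy
    | one => intro i hi; rw [Subgroup.coe_one, pick_one, Subgroup.coe_one, map_one]; simpa using hi
    | mul x y _ _ ihx ihy =>
      intro i hi
      rw [Subgroup.coe_mul, pick_mul, Subgroup.coe_mul, map_mul, mul_inv_rev, Equiv.Perm.mul_apply]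
      exact ihy _ (ihx i hi)
  rw [← Subgroup.mem_toSubmonoid, Subgroup.closure_toSubmonoid_of_finite] at hmem
  obtain ⟨y, hy, hyb⟩ := hb
  have hbS : b ∈ S := by rw [hyb]; exact hy
  have h' := key _ hmem ⟨b, hlt b hbS⟩ hbS
  rw [gimg_spec] at h'
  have hcon : S.any (fun y => Nat.beq (gimg c j b) y) = true :=
    List.any_eq_true.2 ⟨_, h', Nat.beq_refl _⟩
  rw [hcon] at hout
  exact Bool.noConfusion hout

theorem killsPart_two : Fusion.KillsPart 2 (⊤ : Subgroup (K M)) := by
  haveI := finite_K M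
  refine PcCollect.killsPart_of_cert ⊤ two Nat.prime_two maskVec (kg M) two_cert
    (fun i hi j hj => ?_) (strict M) (fun uv huv => ?_)
    (by rw [card_K]; show ¬ 2 ^ 18 ∣ 36787322880; norm_num)
  · have h := allBelow_iff.1 (allBelow_iff.1 rels_ok i hi) j (Nat.lt_succ_of_le hj)
    rw [el_kg, el_kg]
    exact kel_eq M h
  · obtain ⟨c, hc, rfl⟩ := List.getElem_of_mem huv
    refine ⟨kel M [conjIdx.getD c 0], fun k hk => ?_⟩
    have h := allBelow_iff.1 conjs_ok c hc
    simp only [conjsAt, List.getD_eq_getElem _ _ hc, allBelow_iff] at h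
    have h2 := kel_eq M (h k hk)
    rw [kel_append, show ∀ (a : ℕ) (l : List ℕ), a :: l = [a] ++ l from fun _ _ => rfl, kel_append] at h2
    rw [el_kg, el_kg, mul_inv_eq_iff_eq_mul]
    exact h2

theorem no_two {Γ : Type} [Group Γ] [Finite Γ] {σ : Γ →* K M} (hσ : Cfsg.IsStemExtension σ) {z : Γ}
    (hz : z ∈ σ.ker) (hz2 : z ^ 2 = 1) : z = 1 := by
  refine Fusion.eq_one_of_killsPart hσ Nat.prime_two (P := ⊤) ?_ (killsPart_two M) hz hz2
  rw [Subgroup.index_top]; omega

end Cfsg.Agent.Lib.MultU62
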